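import Mathlib.RepresentationTheory.Basic
import Mathlib.RepresentationTheory.Invariants
import Mathlib.GroupTheory.Index
import Mathlib.GroupTheory.Perm.Basic
import Mathlib.LinearAlgebra.FiniteDimensional.Basic
import Mathlib.Algebra.CharP.Basic

/-!
# Representations spanned by one orbit

If the orbit of `a` spans `V` and there is a normal series of the group in which each index is either
invertible in the field or trivial on the orbits of the vectors in the orbit of `a`, then the fixed
vectors are multiples of the sum of the orbit.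
-/

set_option autoImplicit false

namespace CfsgLib.OrbitSum

variable {k V H : Type*} [Field k] [AddCommGroup V] [Module k V] [Group H] [Finite H]
variable (ρ : Representation k H V)

/-- The orbit of `u` under the subgroup `K`. -/
def orb (K : Subgroup H) (u : V) : Set V := {y : V | ∃ h ∈ K, ρ h u = y}

theorem orb_finite (K : Subgroup H) (u : V) : (orb ρ K u).Finite :=
  (Set.finite_range fun h : H => ρ h u).subset fun _ ⟨h, _, e⟩ => ⟨h, e⟩

/-- The sum of the orbit of `u` under `K`. -/
noncomputable def orbSum (K : Subgroup H) (u : V) : V := ∑ y ∈ (orb_finite ρ K u).toFinset, y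

omit [Finite H] in
theorem rho_mul_apply (a b : H) (v : V) : ρ (a * b) v = ρ a (ρ b v) := by
  rw [map_mul]; rfl

theorem orb_smul_of_mem {K : Subgroup H} {g : H} (hg : g ∈ K) (u : V) :
    orb ρ K (ρ g u) = orb ρ K u := by
  ext y
  constructor
  · rintro ⟨h, hh, rfl⟩
    exact ⟨h * g, mul_mem hh hg, rho_mul_apply ρ h g u⟩
  · rintro ⟨h, hh, rfl⟩
    refine ⟨h * g⁻¹, mul_mem hh (inv_mem hg), ?_⟩
    rw [← rho_mul_apply, inv_mul_cancel_right]

theorem orbSum_smul_of_mem {K : Subgroup H} {g : H} (hg : g ∈ K) (u : V) :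
    orbSum ρ K (ρ g u) = orbSum ρ K u := by
  simp only [orbSum, orb_smul_of_mem ρ hg u]

theorem rho_injective (g : H) : Function.Injective (ρ g) := by
  intro a b e
  have := congrArg (ρ g⁻¹) e
  rwa [← rho_mul_apply, ← rho_mul_apply, inv_mul_cancel, map_one] at this

theorem rho_orbSum_of_mem {K : Subgroup H} {g : H} (hg : g ∈ K) (u : V) :
    ρ g (orbSum ρ K u) = orbSum ρ K u := by
  classical
  rw [orbSum, map_sum, ← Finset.sum_image (g := ρ g) (f := fun y => y)
    (fun a _ b _ e => rho_injective ρ g e)]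
  refine Finset.sum_congr ?_ fun _ _ => rfl
  ext y
  simp only [Finset.mem_image, Set.Finite.mem_toFinset]
  constructor
  · rintro ⟨z, ⟨h, hh, rfl⟩, rfl⟩
    exact ⟨g * h, mul_mem hg hh, rho_mul_apply ρ g h u⟩
  · rintro ⟨h, hh, rfl⟩
    exact ⟨ρ (g⁻¹ * h) u, ⟨_, mul_mem (inv_mem hg) hh, rfl⟩,
      by rw [← rho_mul_apply, mul_inv_cancel_left]⟩

theorem rho_orbSum_of_normal (N : Subgroup H) [N.Normal] (g : H) (u : V) :
    ρ g (orbSum ρ N u) = orbSum ρ N (ρ g u) := by
  classical
  rw [orbSum, orbSum, map_sum, ← Finset.sum_image (g := ρ g) (f := fun y => y)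
    (fun a _ b _ e => rho_injective ρ g e)]
  refine Finset.sum_congr ?_ fun _ _ => rfl
  ext y
  simp only [Finset.mem_image, Set.Finite.mem_toFinset]
  constructor
  · rintro ⟨z, ⟨h, hh, rfl⟩, rfl⟩
    exact ⟨g * h * g⁻¹, ‹N.Normal›.conj_mem h hh g,
      by rw [← rho_mul_apply, ← rho_mul_apply, inv_mul_cancel_right]⟩
  · rintro ⟨h, hh, rfl⟩
    refine ⟨ρ (g⁻¹ * h * g) u, ⟨_, ?_, rfl⟩, ?_⟩
    · simpa using ‹N.Normal›.conj_mem h hh g⁻¹
    · rw [← rho_mul_apply, ← rho_mul_apply, mul_assoc g⁻¹ h g, mul_inv_cancel_left]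

theorem orbSum_bot (u : V) : orbSum ρ (⊥ : Subgroup H) u = u := by
  classical
  rw [orbSum, show (orb_finite ρ (⊥ : Subgroup H) u).toFinset = {u} by
    ext y; simp [orb, eq_comm], Finset.sum_singleton]

/-- The stabiliser of a vector. -/
def stab (u : V) : Subgroup H where
  carrier := {h | ρ h u = u}
  one_mem' := by simp
  mul_mem' := fun {a b} ha hb => by
    simp only [Set.mem_ofPred_eq] at *
    rw [rho_mul_apply, hb, ha]
  inv_mem' := fun {a} ha => by
    simp only [Set.mem_ofPred_eq] at *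
    apply rho_injective ρ a
    rw [← rho_mul_apply, mul_inv_cancel, map_one, ha]
    rfl

theorem ncard_orb (K : Subgroup H) (u : V) : (orb ρ K u).ncard = (stab ρ u).relIndex K := by
  rw [← Nat.card_coe_set_eq, Subgroup.relIndex, Subgroup.index]
  have hr : ∀ a b : K, a⁻¹ * b ∈ (stab ρ u).subgroupOf K ↔ ρ a u = ρ b u := by
    intro a b
    show ρ ((a : H)⁻¹ * b) u = u ↔ _
    constructor
    · intro e
      conv_lhs => rw [← e]
      rw [← rho_mul_apply, mul_inv_cancel_left]
    · intro e
      rw [rho_mul_apply, ← e, ← rho_mul_apply, inv_mul_cancel, map_one]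
      rfl
  refine (Nat.card_congr (Equiv.ofBijective
    (Quotient.lift (fun x : K => (⟨ρ x u, x, x.2, rfl⟩ : orb ρ K u))
      fun a b h => Subtype.ext ((hr a b).1 (QuotientGroup.leftRel_apply.1 h))) ⟨?_, ?_⟩)).symm
  · rintro ⟨a⟩ ⟨b⟩ h
    exact Quotient.sound (QuotientGroup.leftRel_apply.2 ((hr a b).2 (Subtype.ext_iff.1 h)))
  · rintro ⟨y, x, hx, rfl⟩
    exact ⟨Quotient.mk'' ⟨x, hx⟩, rfl⟩

theorem orbSum_eq_of_coprime_index (N M : Subgroup H) [N.Normal] (hNM : N ≤ M) (u : V)
    (hco : (N.relIndex M).Coprime (orb ρ M u).ncard) : orbSum ρ M u = orbSum ρ N u := by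
  have key : orb ρ M u = orb ρ N u := by
    refine Set.Subset.antisymm ?_ fun y ⟨h, hh, e⟩ => ⟨h, hNM hh, e⟩
    rintro y ⟨m, hm, rfl⟩
    have h1 : ((stab ρ u ⊓ M) ⊔ N).relIndex M = 1 :=
      Nat.eq_one_of_dvd_coprimes hco (Subgroup.relIndex_dvd_of_le_left M le_sup_right)
        (by rw [ncard_orb, ← Subgroup.inf_relIndex_right (stab ρ u) M]
            exact Subgroup.relIndex_dvd_of_le_left M le_sup_left)
    have h2 : m ∈ N ⊔ (stab ρ u ⊓ M) := sup_comm (stab ρ u ⊓ M) N ▸ Subgroup.relIndex_eq_one.1 h1 hm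
    obtain ⟨n, hn, s, hs, rfl⟩ := Subgroup.mem_sup_of_normal_left.1 h2
    exact ⟨n, hn, by rw [rho_mul_apply, show ρ s u = u from hs.1]⟩
  simp only [orbSum, key]

/-- One step of the series: fixed vectors of `M` from those of `N`. -/
theorem step_invertible {M N : Subgroup H} [N.Normal] (hNM : N ≤ M)
    (hinv : (N.relIndex M : k) ≠ 0) (O : Set V) (hO : ∀ g ∈ M, ∀ u ∈ O, ρ g u ∈ O)
    (v : V) (hv : ∀ g ∈ M, ρ g v = v)
    (hspan : v ∈ Submodule.span k (orbSum ρ N '' O)) :
    v ∈ Submodule.span k (orbSum ρ M '' O) := by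
  classical
  cases nonempty_fintype H
  set N' : Subgroup M := N.subgroupOf M
  let T : V →ₗ[k] V := ∑ q : M ⧸ N', ρ ((q.out : M) : H)
  have hTv : T v = (N.relIndex M : k) • v := by
    simp only [T, LinearMap.sum_apply]
    rw [Finset.sum_congr rfl fun q _ => hv _ (q.out).2, Finset.sum_const, Finset.card_univ,
      ← Nat.card_eq_fintype_card, Nat.cast_smul_eq_nsmul]
    rfl
  have hT : ∀ u, ∃ c : k, T (orbSum ρ N u) = c • orbSum ρ M u := by
    intro u
    -- fibre over `y`: the cosets sending the `N`-orbit of `u` to the one of `y`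
    set F : V → Finset (M ⧸ N') := fun y =>
      Finset.univ.filter fun q => ρ ((q.out : M) : H)⁻¹ y ∈ orb ρ N u
    have hTsum : T (orbSum ρ N u) = ∑ y ∈ (orb_finite ρ M u).toFinset, (F y).card • y := by
      calc T (orbSum ρ N u)
          = ∑ q : M ⧸ N', ∑ y ∈ (orb_finite ρ M u).toFinset.filter (fun y =>
              ρ ((q.out : M) : H)⁻¹ y ∈ orb ρ N u), y := ?_
        _ = ∑ y ∈ (orb_finite ρ M u).toFinset, ∑ _q ∈ F y, y := by
          simp only [Finset.sum_filter, F]; exact Finset.sum_comm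
        _ = ∑ y ∈ (orb_finite ρ M u).toFinset, (F y).card • y := by
          simp [Finset.sum_const]
      simp only [T, LinearMap.sum_apply, orbSum, map_sum]
      rw [Finset.sum_comm]
      refine Finset.sum_congr rfl fun q _ => ?_
      refine Finset.sum_bij' (fun z _ => ρ ((q.out : M) : H) z) (fun y _ => ρ ((q.out : M) : H)⁻¹ y)
        ?_ ?_ ?_ ?_ ?_
      · intro z hz
        rw [Set.Finite.mem_toFinset] at hz
        obtain ⟨n, hn, rfl⟩ := hz
        simp only [Finset.mem_filter, Set.Finite.mem_toFinset]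
        refine ⟨⟨(q.out : M) * n, mul_mem (q.out).2 (hNM hn), rho_mul_apply ρ _ _ _⟩, ⟨n, hn, ?_⟩⟩
        rw [← rho_mul_apply, inv_mul_cancel, map_one]; rfl
      · intro y hy
        simp only [Finset.mem_filter, Set.Finite.mem_toFinset] at hy ⊢
        exact hy.2
      · intro z _; rw [← rho_mul_apply, inv_mul_cancel, map_one]; rfl
      · intro y _; rw [← rho_mul_apply, mul_inv_cancel, map_one]; rfl
      · intro z _; rfl
    refine ⟨((F u).card : k), ?_⟩
    rw [hTsum, orbSum, Finset.smul_sum]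
    refine Finset.sum_congr rfl fun y hy => ?_
    rw [Nat.cast_smul_eq_nsmul]
    congr 1
    rw [Set.Finite.mem_toFinset] at hy
    obtain ⟨m, hm, rfl⟩ := hy
    have hwd : ∀ (q : M ⧸ N') (x : M) (y : V), (x : M ⧸ N') = q →
        (ρ ((q.out : M) : H)⁻¹ y ∈ orb ρ N u ↔ ρ (x : H)⁻¹ y ∈ orb ρ N u) := by
      intro q x y hx
      rw [← q.out_eq'] at hx
      have hn : ((x : H)⁻¹ * ((q.out : M) : H)) ∈ N :=
        (QuotientGroup.eq (s := N')).1 hx
      constructor
      · rintro ⟨n, hn', e⟩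
        exact ⟨_, mul_mem hn hn', by rw [rho_mul_apply, e, ← rho_mul_apply, mul_assoc, mul_inv_cancel, mul_one]⟩
      · rintro ⟨n, hn', e⟩
        exact ⟨_, mul_mem (inv_mem hn) hn',
          by rw [rho_mul_apply, e, ← rho_mul_apply, mul_inv_rev, inv_inv, mul_assoc, mul_inv_cancel, mul_one]⟩
    refine Finset.card_bij' (fun q _ => (⟨m, hm⟩⁻¹ : M) • q) (fun q _ => (⟨m, hm⟩ : M) • q) ?_ ?_ ?_ ?_
    · intro q hq
      simp only [F, Finset.mem_filter, Finset.mem_univ, true_and] at hq ⊢
      rw [hwd ((⟨m, hm⟩⁻¹ : M) • q) (⟨m, hm⟩⁻¹ * q.out) u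
        (by rw [← smul_eq_mul, ← MulAction.Quotient.smul_coe, QuotientGroup.out_eq'])]
      simpa [rho_mul_apply] using hq
    · intro q hq
      simp only [F, Finset.mem_filter, Finset.mem_univ, true_and] at hq ⊢
      rw [hwd ((⟨m, hm⟩ : M) • q) (⟨m, hm⟩ * q.out) (ρ m u)
        (by rw [← smul_eq_mul, ← MulAction.Quotient.smul_coe, QuotientGroup.out_eq'])]
      simp only [Subgroup.coe_mul, mul_inv_rev]
      rwa [← rho_mul_apply, inv_mul_cancel_right]
    · intro q _; simp
    · intro q _; simp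
  have hmem : T v ∈ Submodule.span k (orbSum ρ M '' O) := by
    clear hv hTv
    induction hspan using Submodule.span_induction with
    | mem x hx =>
      obtain ⟨u, hu, rfl⟩ := hx
      obtain ⟨c, hc⟩ := hT u
      rw [hc]
      exact Submodule.smul_mem _ _ (Submodule.subset_span ⟨u, hu, rfl⟩)
    | zero => simp
    | add x y _ _ hx hy => rw [map_add]; exact add_mem hx hy
    | smul c x _ hx => rw [map_smul]; exact Submodule.smul_mem _ _ hx
  rw [hTv] at hmem
  have := Submodule.smul_mem _ (N.relIndex M : k)⁻¹ hmem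
  rwa [inv_smul_smul₀ hinv] at this

omit [Field k] [AddCommGroup V] [Module k V] in
theorem relIndex_dvd_index_of_normal (S M : Subgroup H) [M.Normal] : S.relIndex M ∣ S.index := by
  have h1 := Subgroup.relIndex_mul_relIndex (S ⊓ M) S (S ⊔ M) inf_le_left le_sup_left
  have h2 := Subgroup.relIndex_mul_relIndex (S ⊓ M) M (S ⊔ M) inf_le_right le_sup_right
  rw [← h1, Subgroup.relIndex_sup_right, Subgroup.inf_relIndex_left, Subgroup.inf_relIndex_right,
    mul_comm (S.relIndex M)] at h2
  have h0 : M.relIndex S ≠ 0 := fun h0 => by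
    have := Subgroup.relIndex_dvd_card M S
    rw [h0, zero_dvd_iff] at this
    exact Nat.card_pos.ne' this
  rw [Nat.eq_of_mul_eq_mul_left (Nat.pos_of_ne_zero h0) h2]
  exact Dvd.intro _ (Subgroup.relIndex_mul_index (le_sup_left : S ≤ S ⊔ M))

/-- The criterion for a normal series of `H`. -/
theorem invariants_mem_span (a : V)
    (hspan : Submodule.span k {u : V | ∃ h : H, ρ h a = u} = ⊤)
    (n : ℕ) (S : Fin (n + 1) → Subgroup H) (h0 : S 0 = ⊥) (hlast : S (Fin.last n) = ⊤)
    (hmono : Monotone S) (hnorm : ∀ i, (S i).Normal)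
    (hstep : ∀ i : Fin n, ((S i.castSucc).relIndex (S i.succ) : k) ≠ 0 ∨
      ((S i.castSucc).relIndex (S i.succ)).Coprime (stab ρ a).index)
    (v : V) (hv : ∀ h : H, ρ h v = v) :
    v ∈ Submodule.span k {orbSum ρ (⊤ : Subgroup H) a} := by
  set O := orb ρ (⊤ : Subgroup H) a with hOdef
  have hO : ∀ g : H, ∀ u ∈ O, ρ g u ∈ O := by
    rintro g _ ⟨h, -, rfl⟩
    exact ⟨g * h, trivial, rho_mul_apply ρ g h a⟩
  have main : ∀ i, v ∈ Submodule.span k (orbSum ρ (S i) '' O) := by
    intro i
    induction i using Fin.induction with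
    | zero =>
      rw [h0, show (orbSum ρ (⊥ : Subgroup H) '' O) = O from
        (Set.image_congr fun u _ => orbSum_bot ρ u).trans (Set.image_id' _),
        show O = {u : V | ∃ h : H, ρ h a = u} by ext; simp [hOdef, orb], hspan]
      trivial
    | succ i ih =>
      haveI := hnorm i.castSucc
      haveI := hnorm i.succ
      have hle : S i.castSucc ≤ S i.succ := hmono (by simp [Fin.le_def])
      rcases hstep i with h | h
      · exact step_invertible ρ hle h O (fun g _ => hO g) v (fun g _ => hv g) ih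
      · rw [show orbSum ρ (S i.succ) '' O = orbSum ρ (S i.castSucc) '' O from
          Set.image_congr fun u hu => ?_]
        · exact ih
        obtain ⟨g, -, rfl⟩ := hu
        refine orbSum_eq_of_coprime_index ρ _ _ hle _ (Nat.Coprime.coprime_dvd_right ?_ h)
        rw [ncard_orb]
        refine (relIndex_dvd_index_of_normal _ _).trans (dvd_of_eq ?_)
        rw [show (stab ρ (ρ g a)).index = (orb ρ ⊤ (ρ g a)).ncard by
            rw [ncard_orb, Subgroup.relIndex_top_right],
          orb_smul_of_mem ρ (Subgroup.mem_top g), ncard_orb, Subgroup.relIndex_top_right]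
  refine Submodule.span_mono ?_ (hlast ▸ main (Fin.last n))
  rintro _ ⟨u, ⟨g, -, rfl⟩, rfl⟩
  rw [orbSum_smul_of_mem ρ (Subgroup.mem_top g)]
  rfl

/-- Conclusion shared by the two statements on spanning orbits. -/
theorem finrank_invariants_le_one_and_coprime (a : V)
    (key : ∀ K : Subgroup H, orb ρ K a = orb ρ ⊤ a → ∀ v : V, (∀ h ∈ K, ρ h v = v) →
      v ∈ Submodule.span k {orbSum ρ (⊤ : Subgroup H) a}) :
    Module.finrank k ρ.invariants ≤ 1 ∧
    ∀ b : V, (Nat.card {u : V | ∃ h : H, ρ h a = u}).Coprime (Nat.card {u : V | ∃ h : H, ρ h b = u}) →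
      ∀ h : H, ρ h b = b := by
  constructor
  · refine le_trans (Submodule.finrank_mono (t := Submodule.span k {orbSum ρ (⊤ : Subgroup H) a})
      fun v hv => key ⊤ rfl v fun h _ => hv h) ?_
    exact (finrank_span_le_card _).trans (by simp)
  · intro b hb h
    rw [show {u : V | ∃ h : H, ρ h a = u} = orb ρ ⊤ a by ext; simp [orb],
      show {u : V | ∃ h : H, ρ h b = u} = orb ρ ⊤ b by ext; simp [orb],
      Nat.card_coe_set_eq, Nat.card_coe_set_eq, ncard_orb, ncard_orb,
      Subgroup.relIndex_top_right, Subgroup.relIndex_top_right] at hb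
    have hK : orb ρ (stab ρ b) a = orb ρ ⊤ a := by
      refine Set.eq_of_subset_of_ncard_le (fun y ⟨x, _, e⟩ => ⟨x, trivial, e⟩) ?_ (orb_finite ρ _ _)
      rw [ncard_orb, ncard_orb, Subgroup.relIndex_top_right]
      refine le_of_eq ?_
      -- coprime indices
      have h1 : (stab ρ a).index ∣ (stab ρ a).relIndex (stab ρ b) := by
        refine hb.dvd_of_dvd_mul_right ?_
        rw [← Subgroup.inf_relIndex_right, Subgroup.relIndex_mul_index inf_le_right]
        exact Subgroup.index_dvd_of_le inf_le_left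
      refine le_antisymm (Nat.le_of_dvd (Nat.pos_of_ne_zero ?_) h1)
        ((Subgroup.relIndex_le_of_le_right le_top (by simp [Subgroup.index_ne_zero_of_finite])).trans_eq
          (Subgroup.relIndex_top_right _))
      intro h0
      have := Subgroup.relIndex_dvd_card (stab ρ a) (stab ρ b)
      rw [h0, zero_dvd_iff] at this
      exact Nat.card_pos.ne' this
    obtain ⟨c, hc⟩ := Submodule.mem_span_singleton.1 (key _ hK b fun x hx => hx)
    rw [← hc, map_smul, rho_orbSum_of_mem ρ (Subgroup.mem_top h)]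

end CfsgLib.OrbitSum
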